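import Cfsg.Agent.H4.SLThree.SingerSpec

/-!
Orbits on vectors, incidence numbers and elations of `GL₃` over a finite field, for the elation piece of the
maximality of the Singer normaliser.
-/

set_option autoImplicit false

namespace Cfsg.Agent.H60.SLThree.Elation

open Cfsg.Agent.H4.SLThree.Singer
open scoped Matrix

variable {F : Type*} [Field F]

local notation "VV" => Fin 3 → F

/-- The contragredient `g ↦ (g⁻¹)ᵀ`. -/
def dual : GL (Fin 3) F →* GL (Fin 3) F where
  toFun g := ⟨((g⁻¹ : GL (Fin 3) F) : Matrix (Fin 3) (Fin 3) F)ᵀ, (g : Matrix (Fin 3) (Fin 3) F)ᵀ,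
    by rw [← Matrix.transpose_mul, g.mul_inv, Matrix.transpose_one],
    by rw [← Matrix.transpose_mul, g.inv_mul, Matrix.transpose_one]⟩
  map_one' := by ext1; simp
  map_mul' g h := by ext1; simp [Matrix.transpose_mul]

theorem coe_dual (g : GL (Fin 3) F) :
    (dual g : Matrix (Fin 3) (Fin 3) F) = ((g⁻¹ : GL (Fin 3) F) : Matrix (Fin 3) (Fin 3) F)ᵀ := rfl

theorem dual_dual (g : GL (Fin 3) F) : dual (dual g) = g := by
  ext1
  rw [coe_dual, ← map_inv, coe_dual, inv_inv, Matrix.transpose_transpose]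

theorem dual_injective : Function.Injective (dual (F := F)) := fun a b h => by
  rw [← dual_dual a, h, dual_dual b]

theorem map_dual_dual (M : Subgroup (GL (Fin 3) F)) : (M.map dual).map dual = M := by
  rw [Subgroup.map_map]
  convert Subgroup.map_id M
  exact MonoidHom.ext dual_dual

theorem dual_dot (g : GL (Fin 3) F) (w v : VV) :
    ((dual g : Matrix (Fin 3) (Fin 3) F) *ᵥ w) ⬝ᵥ ((g : Matrix (Fin 3) (Fin 3) F) *ᵥ v) = w ⬝ᵥ v := by
  rw [coe_dual, Matrix.mulVec_transpose, ← Matrix.dotProduct_mulVec, H98.gl_inv_mulVec]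

theorem dot_dual (g : GL (Fin 3) F) (w x : VV) :
    ((dual g : Matrix (Fin 3) (Fin 3) F) *ᵥ w) ⬝ᵥ x
      = w ⬝ᵥ (((g⁻¹ : GL (Fin 3) F) : Matrix (Fin 3) (Fin 3) F) *ᵥ x) := by
  rw [coe_dual, Matrix.mulVec_transpose, ← Matrix.dotProduct_mulVec]

/-- The functional given by a vector. -/
def dl (u : VV) : VV →ₗ[F] F where
  toFun x := u ⬝ᵥ x
  map_add' := dotProduct_add u
  map_smul' c x := by rw [dotProduct_smul]; rfl

@[simp] theorem dl_apply (u x : VV) : dl u x = u ⬝ᵥ x := rfl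

theorem exists_dl (φ : VV →ₗ[F] F) : ∃ u, φ = dl u := by
  refine ⟨fun i => φ (Pi.single i 1), ?_⟩
  refine (LinearMap.pi_ext fun i c => ?_)
  rw [dl_apply, dotProduct_single]
  simp only [← smul_eq_mul]
  conv_lhs => rw [← mul_one c, ← smul_eq_mul, Pi.single_smul', map_smul]
  rw [smul_eq_mul, smul_eq_mul, mul_comm]

/-- `x ↦ x + (u ⬝ x) • a` lies in `M`. -/
def El (M : Subgroup (GL (Fin 3) F)) (u a : VV) : Prop := HasEl M (dl u) a

theorem El.dot {M : Subgroup (GL (Fin 3) F)} {u a : VV} (h : El M u a) : u ⬝ᵥ a = 0 := h.1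

theorem el_congr {M : Subgroup (GL (Fin 3) F)} {u a w b : VV} (h : El M u a) (hb : w ⬝ᵥ b = 0)
    (he : ∀ x, (u ⬝ᵥ x) • a = (w ⬝ᵥ x) • b) : El M w b := by
  obtain ⟨ha, hM⟩ := h
  have hb' : dl w b = 0 := hb
  refine ⟨hb', ?_⟩
  rwa [show H98.transGL (dl w) b hb'  = H98.transGL (dl u) a ha from
    H98.gl_ext fun x => by rw [H98.transGL_mulVec, H98.transGL_mulVec, dl_apply, dl_apply, he]]

theorem el_smul_iff {M : Subgroup (GL (Fin 3) F)} {u a : VV} {c : F} :
    El M u (c • a) ↔ El M (c • u) a := by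
  constructor
  · intro h
    refine el_congr h ?_ fun x => by rw [smul_dotProduct, smul_smul, smul_eq_mul, mul_comm]
    rw [smul_dotProduct, ← dotProduct_smul, h.dot]
  · intro h
    refine el_congr h ?_ fun x => by rw [smul_dotProduct, smul_smul, smul_eq_mul, mul_comm]
    rw [dotProduct_smul, ← smul_dotProduct, h.dot]

theorem el_conj {M : Subgroup (GL (Fin 3) F)} {u a : VV} {g : GL (Fin 3) F} (hg : g ∈ M) (h : El M u a) :
    El M ((dual g : Matrix (Fin 3) (Fin 3) F) *ᵥ u) ((g : Matrix (Fin 3) (Fin 3) F) *ᵥ a) := by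
  obtain ⟨ha, hM⟩ := h
  have hb : dl ((dual g : Matrix (Fin 3) (Fin 3) F) *ᵥ u) ((g : Matrix (Fin 3) (Fin 3) F) *ᵥ a) = 0 :=
    (dual_dot g u a).trans ha
  refine ⟨hb, ?_⟩
  have e : H98.transGL (dl ((dual g : Matrix (Fin 3) (Fin 3) F) *ᵥ u)) ((g : Matrix (Fin 3) (Fin 3) F) *ᵥ a) hb
      = g * H98.transGL (dl u) a ha * g⁻¹ := by
    rw [H98.conj_transGL]
    exact H98.gl_ext fun x => by
      simp only [H98.transGL_mulVec, dl_apply, LinearMap.comp_apply, Matrix.mulVecLin_apply, dot_dual]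
  rw [e]
  exact M.mul_mem (M.mul_mem hg hM) (M.inv_mem hg)

/-- The axes of the elations in `M` with centre `a`. -/
def axes (M : Subgroup (GL (Fin 3) F)) (a : VV) : AddSubgroup VV where
  carrier := {u | El M u a}
  zero_mem' := by
    have h : dl (0 : VV) a = 0 := zero_dotProduct a
    refine ⟨h, ?_⟩
    convert M.one_mem using 1
    exact H98.gl_ext fun v => by rw [H98.transGL_mulVec]; simp
  add_mem' := by
    rintro u v ⟨hu, hMu⟩ ⟨hv, hMv⟩
    have h : dl (u + v) a = 0 := by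
      rw [dl_apply, add_dotProduct]; rw [dl_apply] at hu hv; rw [hu, hv, add_zero]
    refine ⟨h, ?_⟩
    convert M.mul_mem hMu hMv using 1
    refine H98.gl_ext fun x => ?_
    simp only [Units.val_mul, ← Matrix.mulVec_mulVec, H98.transGL_mulVec, dl_apply, map_add, map_smul,
      add_dotProduct, add_smul]
    rw [show u ⬝ᵥ a = 0 from hu, smul_zero, zero_smul, add_zero]
    abel
  neg_mem' := by
    rintro u ⟨hu, hMu⟩
    have h : dl (-u) a = 0 := by
      rw [dl_apply, neg_dotProduct]; rw [dl_apply] at hu; rw [hu, neg_zero]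
    refine ⟨h, ?_⟩
    have e : H98.transGL (dl (-u)) a h = (H98.transGL (dl u) a hu)⁻¹ := by
      refine eq_inv_of_mul_eq_one_left (H98.gl_ext fun x => ?_)
      simp only [Units.val_mul, ← Matrix.mulVec_mulVec, H98.transGL_mulVec, dl_apply, map_add, map_smul,
        neg_dotProduct, Units.val_one, Matrix.one_mulVec, show u ⬝ᵥ a = 0 from hu, neg_zero, smul_zero,
        add_zero, neg_smul]
      abel
    rw [e]
    exact M.inv_mem hMu

theorem mem_axes {M : Subgroup (GL (Fin 3) F)} {u a : VV} : u ∈ axes M a ↔ El M u a := Iff.rfl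

theorem el_dual {M : Subgroup (GL (Fin 3) F)} {u a : VV} (h : El M u a) : El (M.map dual) a u := by
  obtain ⟨ha, hM⟩ := h
  have hn : dl (-a) u = 0 := by
    rw [dl_apply, neg_dotProduct, dotProduct_comm]
    exact neg_eq_zero.2 ha
  have key : El (M.map dual) (-a) u := by
    refine ⟨hn, _, hM, H98.gl_ext fun v => dotProduct_eq _ _ fun x => ?_⟩
    have hti : ((H98.transGL (dl u) a ha)⁻¹ : GL (Fin 3) F).val *ᵥ x = x - (u ⬝ᵥ x) • a := by
      apply H98.gl_mulVec_injective (H98.transGL (dl u) a ha)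
      show (H98.transGL (dl u) a ha : GL (Fin 3) F).val *ᵥ _ = (H98.transGL (dl u) a ha : GL (Fin 3) F).val *ᵥ _
      rw [H98.gl_mulVec_inv, H98.transGL_mulVec, dl_apply, dotProduct_sub, dotProduct_smul,
        show u ⬝ᵥ a = 0 from ha, smul_zero, sub_zero, sub_add_cancel]
    rw [dot_dual, hti, H98.transGL_mulVec, dl_apply, dotProduct_sub, dotProduct_smul, add_dotProduct,
      smul_dotProduct, neg_dotProduct, dotProduct_comm a v, smul_eq_mul, smul_eq_mul]
    ring
  have := (axes (M.map dual) u).neg_mem (mem_axes.2 key)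
  rwa [neg_neg] at this

variable [Fintype F]

open scoped Classical in
/-- The nonzero vectors. -/
noncomputable def nz : Finset VV := Finset.univ.filter (· ≠ 0)

theorem mem_nz {v : VV} : v ∈ (nz : Finset VV) ↔ v ≠ 0 := by classical simp [nz]

open scoped Classical in
/-- The vectors proportional to an image of `v` under `G`. -/
noncomputable def orb (G : Subgroup (GL (Fin 3) F)) (v : VV) : Finset VV :=
  nz.filter fun w => ∃ g ∈ G, ∃ c : F, w = c • ((g : Matrix (Fin 3) (Fin 3) F) *ᵥ v)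

theorem mem_orb {G : Subgroup (GL (Fin 3) F)} {v w : VV} :
    w ∈ orb G v ↔ w ≠ 0 ∧ ∃ g ∈ G, ∃ c : F, w = c • ((g : Matrix (Fin 3) (Fin 3) F) *ᵥ v) := by
  classical simp [orb, mem_nz]

theorem self_mem_orb {G : Subgroup (GL (Fin 3) F)} {v : VV} (hv : v ≠ 0) : v ∈ orb G v :=
  mem_orb.2 ⟨hv, 1, G.one_mem, 1, by simp⟩

/-- A set of nonzero vectors invariant under `G` and scalars. -/
def Invt (G : Subgroup (GL (Fin 3) F)) (A : Finset VV) : Prop :=
  A ⊆ nz ∧ ∀ g ∈ G, ∀ c : F, c ≠ 0 → ∀ v ∈ A, c • ((g : Matrix (Fin 3) (Fin 3) F) *ᵥ v) ∈ A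

theorem invt_mono {G H : Subgroup (GL (Fin 3) F)} (h : G ≤ H) {A : Finset VV} (hA : Invt H A) : Invt G A :=
  ⟨hA.1, fun g hg => hA.2 g (h hg)⟩

theorem invt_nz (G : Subgroup (GL (Fin 3) F)) : Invt G (nz : Finset VV) := by
  refine ⟨Finset.Subset.refl _, fun g _ c hc v hv => mem_nz.2 (smul_ne_zero hc fun h => mem_nz.1 hv ?_)⟩
  apply H98.gl_mulVec_injective g
  show (g : Matrix (Fin 3) (Fin 3) F) *ᵥ v = (g : Matrix (Fin 3) (Fin 3) F) *ᵥ 0
  rw [h, Matrix.mulVec_zero]

theorem invt_orb (G : Subgroup (GL (Fin 3) F)) (v : VV) : Invt G (orb G v) := by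
  refine ⟨fun w hw => mem_nz.2 (mem_orb.1 hw).1, fun g hg c hc w hw => ?_⟩
  obtain ⟨hw0, h, hh, d, rfl⟩ := mem_orb.1 hw
  refine mem_orb.2 ⟨mem_nz.1 ((invt_nz G).2 g hg c hc _ (mem_nz.2 hw0)), g * h, G.mul_mem hg hh, c * d, ?_⟩
  rw [Matrix.mulVec_smul, smul_smul, Units.val_mul, Matrix.mulVec_mulVec]

theorem orb_eq_of_mem {G : Subgroup (GL (Fin 3) F)} {v w : VV} (hw : w ∈ orb G v) : orb G w = orb G v := by
  obtain ⟨hw0, g, hg, c, rfl⟩ := mem_orb.1 hw
  have hc : c ≠ 0 := fun h => hw0 (by rw [h, zero_smul])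
  ext z
  rw [mem_orb, mem_orb]
  refine and_congr_right fun hz => ⟨?_, ?_⟩
  · rintro ⟨h, hh, d, rfl⟩
    exact ⟨h * g, G.mul_mem hh hg, d * c, by rw [Matrix.mulVec_smul, smul_smul, Units.val_mul, Matrix.mulVec_mulVec]⟩
  · rintro ⟨h, hh, d, rfl⟩
    refine ⟨h * g⁻¹, G.mul_mem hh (G.inv_mem hg), d / c, ?_⟩
    rw [Matrix.mulVec_smul, smul_smul, div_mul_cancel₀ d hc, Units.val_mul, ← Matrix.mulVec_mulVec,
      H98.gl_inv_mulVec]

theorem orb_subset {G : Subgroup (GL (Fin 3) F)} {A : Finset VV} (hA : Invt G A) {v : VV} (hv : v ∈ A) :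
    orb G v ⊆ A := fun w hw => by
  obtain ⟨hw0, g, hg, c, rfl⟩ := mem_orb.1 hw
  exact hA.2 g hg c (fun h => hw0 (by rw [h, zero_smul])) v hv

theorem card_eq_sum_classes {α : Type*} [DecidableEq α] (A : Finset α) (f : α → Finset α)
    (hf : ∀ x ∈ A, ∀ y, y ∈ f x ↔ y ∈ A ∧ f y = f x) : A.card = ∑ O ∈ A.image f, O.card := by
  rw [Finset.card_eq_sum_card_image f A]
  refine Finset.sum_congr rfl fun O hO => ?_
  obtain ⟨x, hx, rfl⟩ := Finset.mem_image.1 hO
  congr 1
  ext y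
  rw [Finset.mem_filter, hf x hx y]

theorem orb_classes {G : Subgroup (GL (Fin 3) F)} {A : Finset VV} (hA : Invt G A) :
    ∀ x ∈ A, ∀ y, y ∈ orb G x ↔ y ∈ A ∧ orb G y = orb G x := fun x hx y =>
  ⟨fun h => ⟨orb_subset hA hx h, orb_eq_of_mem h⟩, fun h => h.2 ▸ self_mem_orb (mem_nz.1 (hA.1 h.1))⟩

theorem card_nz : (nz : Finset VV).card + 1 = Fintype.card F ^ 3 := by
  classical
  rw [show (nz : Finset VV) = Finset.univ.erase 0 by ext; simp [mem_nz],
    Finset.card_erase_add_one (Finset.mem_univ _), Finset.card_univ, Fintype.card_fun, Fintype.card_fin]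

theorem card_orb_bot {v : VV} (hv : v ≠ 0) : (orb ⊥ v).card + 1 = Fintype.card F := by
  classical
  rw [show orb (⊥ : Subgroup (GL (Fin 3) F)) v = (Finset.univ.erase (0 : F)).image (fun c => c • v) by
      ext w
      simp only [mem_orb, Subgroup.mem_bot, Finset.mem_image, Finset.mem_erase, Finset.mem_univ, and_true]
      constructor
      · rintro ⟨hw, g, rfl, c, rfl⟩
        exact ⟨c, fun h => hw (by rw [h, zero_smul]), by simp⟩
      · rintro ⟨c, hc, rfl⟩
        exact ⟨smul_ne_zero hc hv, 1, rfl, c, by simp⟩,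
    Finset.card_image_of_injective _ (fun a b h => smul_left_injective F hv h),
    Finset.card_erase_add_one (Finset.mem_univ _), Finset.card_univ]

theorem dvd_card_invt {A : Finset VV} (hA : Invt ⊥ A) {r : ℕ} (hr : r + 1 = Fintype.card F) : r ∣ A.card := by
  classical
  rw [card_eq_sum_classes A (orb ⊥) (orb_classes hA)]
  refine Finset.dvd_sum fun O hO => ?_
  obtain ⟨x, hx, rfl⟩ := Finset.mem_image.1 hO
  have := card_orb_bot (mem_nz.1 (hA.1 hx))
  exact ⟨1, by omega⟩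

open scoped Classical in
/-- The nonzero vectors orthogonal to `v`. -/
noncomputable def perp (v : VV) : Finset VV := nz.filter fun w => w ⬝ᵥ v = 0

theorem mem_perp {v w : VV} : w ∈ perp v ↔ w ≠ 0 ∧ w ⬝ᵥ v = 0 := by classical simp [perp, mem_nz]

open scoped Classical in
/-- The nonzero vectors orthogonal to both `v` and `z`. -/
noncomputable def perp2 (v z : VV) : Finset VV := (perp v).filter fun w => w ⬝ᵥ z = 0

theorem mem_perp2 {v z w : VV} : w ∈ perp2 v z ↔ w ≠ 0 ∧ w ⬝ᵥ v = 0 ∧ w ⬝ᵥ z = 0 := by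
  classical simp [perp2, mem_perp, and_assoc]

theorem card_annihilator {m : ℕ} (A : Matrix (Fin m) (Fin 3) F) (h : LinearIndependent F A.row) :
    Nat.card {w : VV // A *ᵥ w = 0} = Fintype.card F ^ (3 - m) := by
  have hr : Module.finrank F A.mulVecLin.range = m := h.rank_matrix.trans (Fintype.card_fin m)
  have h3 := A.mulVecLin.finrank_range_add_finrank_ker
  rw [hr, Module.finrank_fin_fun] at h3
  rw [← Nat.card_eq_fintype_card (α := F), ← show Module.finrank F A.mulVecLin.ker = 3 - m by omega,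
    ← Module.natCard_eq_pow_finrank]
  exact Nat.card_congr (Equiv.subtypeEquivRight fun w => by rw [LinearMap.mem_ker, Matrix.mulVecLin_apply])

theorem card_perp {v : VV} (hv : v ≠ 0) : (perp v).card + 1 = Fintype.card F ^ 2 := by
  classical
  have h := card_annihilator (Matrix.of ![v])
    (LinearIndependent.of_subsingleton (R := F) (i := (0 : Fin 1)) hv)
  rw [Nat.card_eq_fintype_card, Fintype.card_subtype] at h
  rw [show 3 - 1 = 2 from rfl] at h
  rw [← h, ← Finset.card_erase_add_one (a := (0 : VV))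
    (s := Finset.univ.filter fun w => Matrix.of ![v] *ᵥ w = 0) (by simp)]
  congr 2
  ext w
  simp [mem_perp, funext_iff, dotProduct_comm v w]

theorem card_perp_two {v z : VV} (hv : v ≠ 0) (hz : z ≠ 0) (hn : z ∉ orb ⊥ v) :
    (perp2 v z).card + 1 = Fintype.card F := by
  classical
  have hli : LinearIndependent F (Matrix.of ![v, z]).row := by
    show LinearIndependent F ![v, z]
    rw [LinearIndependent.pair_iff' hv]
    intro c hc
    exact hn (mem_orb.2 ⟨hz, 1, rfl, c, by simp [hc]⟩)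
  have h := card_annihilator (Matrix.of ![v, z]) hli
  rw [Nat.card_eq_fintype_card, Fintype.card_subtype] at h
  rw [show 3 - 2 = 1 from rfl, pow_one] at h
  rw [← h, ← Finset.card_erase_add_one (a := (0 : VV))
    (s := Finset.univ.filter fun w => Matrix.of ![v, z] *ᵥ w = 0) (by simp)]
  congr 2
  ext w
  simp [mem_perp2, funext_iff, Fin.forall_fin_two, dotProduct_comm v w, dotProduct_comm z w]

theorem perp_unique {v z w u : VV} (hv : v ≠ 0) (hz : z ≠ 0) (hn : z ∉ orb ⊥ v) (hw : w ≠ 0)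
    (hwv : w ⬝ᵥ v = 0) (hwz : w ⬝ᵥ z = 0) (huv : u ⬝ᵥ v = 0) (huz : u ⬝ᵥ z = 0) : ∃ c : F, u = c • w := by
  classical
  rcases eq_or_ne u 0 with rfl | hu
  · exact ⟨0, by simp⟩
  have hsub : orb ⊥ w ⊆ perp2 v z := fun x hx => by
    obtain ⟨hx0, g, rfl, c, rfl⟩ := mem_orb.1 hx
    simp only [Units.val_one, Matrix.one_mulVec] at hx0 ⊢
    simp [mem_perp2, smul_dotProduct, hwv, hwz, hx0]
  have heq := Finset.eq_of_subset_of_card_le hsub
    (by have := card_perp_two hv hz hn; have := card_orb_bot hw; omega)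
  have : u ∈ orb ⊥ w := heq ▸ mem_perp2.2 ⟨hu, huv, huz⟩
  obtain ⟨-, g, rfl, c, hc⟩ := mem_orb.1 this
  exact ⟨c, by simpa using hc⟩

theorem sum_perp_two_of_mem {A : Finset VV} (hA : Invt ⊥ A) {v : VV} (hv : v ∈ A) {r : ℕ}
    (hr : r + 1 = Fintype.card F) :
    (∑ z ∈ A, (perp2 v z).card) + r * r = r * (r * (r + 2)) + A.card * r := by
  classical
  have hv0 := mem_nz.1 (hA.1 hv)
  have hs : orb ⊥ v ⊆ A := orb_subset hA hv
  have hc : (orb (⊥ : Subgroup (GL (Fin 3) F)) v).card = r := by have := card_orb_bot hv0; omega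
  rw [← Finset.sum_sdiff hs]
  have h1 : ∀ z ∈ A \ orb ⊥ v, (perp2 v z).card = r := fun z hz => by
    rw [Finset.mem_sdiff] at hz
    have := card_perp_two hv0 (mem_nz.1 (hA.1 hz.1)) hz.2
    omega
  have h2 : ∀ z ∈ orb ⊥ v, (perp2 v z).card = r * (r + 2) := fun z hz => by
    obtain ⟨hz0, g, rfl, c, rfl⟩ := mem_orb.1 hz
    simp only [Units.val_one, Matrix.one_mulVec] at hz0 ⊢
    have hc0 : c ≠ 0 := fun h => hz0 (by rw [h, zero_smul])
    have := card_perp hv0
    rw [← hr] at this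
    rw [show perp2 v (c • v) = perp v by
      ext x; simp [mem_perp, mem_perp2, dotProduct_smul, hc0]]
    have e : (r + 1) ^ 2 = r * (r + 2) + 1 := by ring
    omega
  rw [Finset.sum_congr rfl h1, Finset.sum_congr rfl h2, Finset.sum_const, Finset.sum_const, smul_eq_mul,
    smul_eq_mul, hc]
  have hle := Finset.card_le_card hs
  rw [hc] at hle
  rw [Finset.card_sdiff_of_subset hs, hc]
  obtain ⟨t, ht⟩ : ∃ t, A.card = t + r := ⟨A.card - r, by omega⟩
  rw [ht, Nat.add_sub_cancel]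
  ring

theorem sum_perp_two_of_not_mem {A : Finset VV} (hA : Invt ⊥ A) {v : VV} (hv0 : v ≠ 0) (hv : v ∉ A) {r : ℕ}
    (hr : r + 1 = Fintype.card F) :
    ∑ z ∈ A, (perp2 v z).card = A.card * r := by
  classical
  rw [Finset.sum_congr rfl (g := fun _ => r) fun z hz => ?_, Finset.sum_const, smul_eq_mul]
  have hz0 := mem_nz.1 (hA.1 hz)
  have := card_perp_two hv0 hz0 fun h => hv (orb_subset hA hz (orb_eq_of_mem h ▸ self_mem_orb hv0))
  omega

end Cfsg.Agent.H60.SLThree.Elation
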