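import Cfsg.Agent.H60.SLThree.ElationBase

/-!
An overgroup of the Singer group of `SL₃` with an elation is transitive on points and has two centres on every
axis: orbit congruences modulo the characteristic and incidence counts with the classes of the Singer group.
-/

set_option autoImplicit false

namespace Cfsg.Agent.H60.SLThree.Elation

open Cfsg.Agent.H4.SLThree.Singer
open scoped Matrix

variable {F : Type*} [Field F] [Fintype F]

local notation "VV" => Fin 3 → F

/-- All orbits of `G` on points have the size of a Singer orbit. -/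
def Regular (G : Subgroup (GL (Fin 3) F)) : Prop :=
  ∀ v : VV, v ≠ 0 → Nat.card (rootsOfUnity 3 F) * (orb G v).card
    = (Fintype.card F - 1) * (Fintype.card F ^ 2 + Fintype.card F + 1)

theorem roots_card : Nat.card (rootsOfUnity 3 F) = 1 ∨ Nat.card (rootsOfUnity 3 F) = 3 := by
  have h : Monoid.exponent (rootsOfUnity 3 F) ∣ 3 :=
    Monoid.exponent_dvd_of_forall_pow_eq_one fun x => Subtype.ext x.2
  rw [IsCyclic.exponent_eq_card] at h
  exact (Nat.dvd_prime Nat.prime_three).1 h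

theorem regular_of (G : Subgroup (GL (Fin 3) F))
    (hcard : Nat.card G = Fintype.card F ^ 2 + Fintype.card F + 1)
    (hdet : ∀ g ∈ G, (g : Matrix (Fin 3) (Fin 3) F).det = 1)
    (hscal : ∀ c : Fˣ, c ^ 3 = 1 → ∃ g ∈ G, (g : Matrix (Fin 3) (Fin 3) F) = (c : F) • 1)
    (hfix : ∀ g ∈ G, ∀ v : VV, v ≠ 0 → ∀ c : F, (g : Matrix (Fin 3) (Fin 3) F) *ᵥ v = c • v →
      (g : Matrix (Fin 3) (Fin 3) F) = c • 1) : Regular G := by
  classical
  intro v hv
  have hex : ∀ w : {w // w ∈ orb G v}, ∃ g : G, ∃ c : Fˣ,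
      w.1 = (c : F) • (((g : GL (Fin 3) F) : Matrix (Fin 3) (Fin 3) F) *ᵥ v) := by
    rintro ⟨w, hw⟩
    obtain ⟨hw0, g, hg, c, rfl⟩ := mem_orb.1 hw
    exact ⟨⟨g, hg⟩, Units.mk0 c fun h => hw0 (by rw [h, zero_smul]), rfl⟩
  choose gw cw hw using hex
  have hscal' : ∀ c : rootsOfUnity 3 F, ∃ g ∈ G, (g : Matrix (Fin 3) (Fin 3) F) = ((c : Fˣ) : F) • 1 :=
    fun c => hscal c c.2
  choose s hsG hs using hscal'
  let Φ : {w // w ∈ orb G v} × rootsOfUnity 3 F → G × Fˣ := fun x =>
    (⟨s x.2, hsG _⟩ * gw x.1, cw x.1 * (x.2 : Fˣ)⁻¹)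
  have himg : ∀ x, ((Φ x).2 : F) • (((Φ x).1 : GL (Fin 3) F) : Matrix (Fin 3) (Fin 3) F) *ᵥ v = x.1.1 := by
    intro x
    simp only [Φ, Subgroup.coe_mul, Units.val_mul, hs, smul_mul_assoc, one_mul, Matrix.smul_mulVec, smul_smul]
    rw [mul_assoc, ← Units.val_mul, inv_mul_cancel, Units.val_one, mul_one, ← hw]
  have hinj : Function.Injective Φ := by
    intro x y h
    have e : x.1 = y.1 := Subtype.ext (by rw [← himg x, ← himg y, h])
    have e2 := congrArg Prod.snd h
    simp only [Φ, e, mul_right_inj, inv_inj] at e2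
    exact Prod.ext e (Subtype.ext e2)
  have hsurj : Function.Surjective Φ := by
    rintro ⟨g, c⟩
    have hz : (c : F) • (((g : GL (Fin 3) F) : Matrix (Fin 3) (Fin 3) F) *ᵥ v) ∈ orb G v := by
      refine mem_orb.2 ⟨mem_nz.1 ((invt_nz G).2 _ g.2 _ c.ne_zero v (mem_nz.2 hv)), g, g.2, c, rfl⟩
    set w : {w // w ∈ orb G v} := ⟨_, hz⟩ with hwd
    have he := hw w
    set r : Fˣ := cw w * c⁻¹ with hr
    have hh : (((gw w)⁻¹ * g : G) : GL (Fin 3) F).val *ᵥ v = (r : F) • v := by
      rw [Subgroup.coe_mul, Units.val_mul, ← Matrix.mulVec_mulVec, Subgroup.coe_inv]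
      have : ((g : GL (Fin 3) F) : Matrix (Fin 3) (Fin 3) F) *ᵥ v
          = (r : F) • (((gw w : G) : GL (Fin 3) F).val *ᵥ v) := by
        rw [hr, Units.val_mul, mul_comm, ← smul_smul, ← he, smul_smul, ← Units.val_mul, inv_mul_cancel,
          Units.val_one, one_smul]
      rw [this, Matrix.mulVec_smul, H98.gl_inv_mulVec]
    have hm := hfix _ ((gw w)⁻¹ * g).2 v hv _ hh
    have hr3 : r ^ 3 = 1 := by
      have := hdet _ ((gw w)⁻¹ * g).2
      rw [hm, Matrix.det_smul, Matrix.det_one, mul_one, Fintype.card_fin] at this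
      ext
      rw [Units.val_pow_eq_pow_val, this, Units.val_one]
    refine ⟨(w, ⟨r, hr3⟩), Prod.ext (Subtype.ext (Units.ext ?_)) ?_⟩
    · have hgv : ((g : GL (Fin 3) F) : Matrix (Fin 3) (Fin 3) F) = ((gw w : G) : GL (Fin 3) F).val
          * ((((gw w)⁻¹ * g : G) : GL (Fin 3) F) : Matrix (Fin 3) (Fin 3) F) := by
        rw [← Units.val_mul, ← Subgroup.coe_mul, mul_inv_cancel_left]
      rw [hgv, hm]
      simp only [Φ, Subgroup.coe_mul, Units.val_mul, hs, smul_mul_assoc, one_mul, mul_smul_comm, mul_one]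
    · simp [Φ, hr]
  have hc := Nat.card_congr (Equiv.ofBijective Φ ⟨hinj, hsurj⟩)
  rw [Nat.card_prod, Nat.card_prod, hcard, Nat.card_eq_fintype_card (α := Fˣ), Fintype.card_units,
    Nat.card_eq_fintype_card (α := {w // w ∈ orb G v}), Fintype.card_coe] at hc
  rw [mul_comm, hc, mul_comm]

theorem regular_singer {K : Subalgebra F (Matrix (Fin 3) (Fin 3) F)} (hK : Facts K) :
    Regular (singer K hK.inv_mem) ∧ Regular ((singer K hK.inv_mem).map dual) := by
  have hscalS : ∀ c : Fˣ, c ^ 3 = 1 → ∃ g ∈ singer K hK.inv_mem, (g : Matrix (Fin 3) (Fin 3) F) = (c : F) • 1 := by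
    intro c hc
    refine ⟨⟨(c : F) • 1, ((c⁻¹ : Fˣ) : F) • 1, by simp [smul_smul], by simp [smul_smul]⟩,
      ⟨hK.scalar_mem c, ?_⟩, rfl⟩
    simp [Matrix.det_smul, ← Units.val_pow_eq_pow_val, hc]
  refine ⟨regular_of _ hK.card_singer (fun g hg => hg.2) hscalS fun g hg v hv c h => ?_,
    regular_of _ ?_ ?_ ?_ ?_⟩
  · refine sub_eq_zero.1 (hK.eq_zero_of_mulVec _ (K.sub_mem hg.1 (hK.scalar_mem c)) v hv ?_)
    rw [Matrix.sub_mulVec, h, Matrix.smul_mulVec, Matrix.one_mulVec, sub_self]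
  · rw [← hK.card_singer]
    exact Nat.card_congr (Subgroup.equivMapOfInjective _ _ dual_injective).symm.toEquiv
  · rintro _ ⟨g, hg, rfl⟩
    rw [coe_dual, Matrix.det_transpose]
    exact ((singer K hK.inv_mem).inv_mem hg).2
  · intro c hc
    obtain ⟨g, hg, hgc⟩ := hscalS c hc
    refine ⟨dual g⁻¹, ⟨_, (singer K hK.inv_mem).inv_mem hg, rfl⟩, ?_⟩
    rw [coe_dual, inv_inv, hgc, Matrix.transpose_smul, Matrix.transpose_one]
  · rintro _ ⟨g, hg, rfl⟩ v hv c h
    have hk := K.sub_mem (hK.inv_mem g hg.1) (hK.scalar_mem c)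
    set k := ((g⁻¹ : GL (Fin 3) F) : Matrix (Fin 3) (Fin 3) F) - c • 1 with hkd
    have h0 : kᵀ.det = 0 := Matrix.exists_mulVec_eq_zero_iff.1 ⟨v, hv, by
      rw [hkd, Matrix.transpose_sub, Matrix.transpose_smul, Matrix.transpose_one, Matrix.sub_mulVec,
        ← coe_dual, h, Matrix.smul_mulVec, Matrix.one_mulVec, sub_self]⟩
    rw [Matrix.det_transpose] at h0
    obtain ⟨x, hx, hx0⟩ := Matrix.exists_mulVec_eq_zero_iff.2 h0
    rw [coe_dual, sub_eq_zero.1 (hK.eq_zero_of_mulVec _ hk x hx hx0), Matrix.transpose_smul,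
      Matrix.transpose_one]

/-- Transitive on points. -/
def PTrans (M : Subgroup (GL (Fin 3) F)) : Prop := ∀ v : VV, v ≠ 0 → orb M v = nz

open scoped Classical in
/-- The vectors of `A` orthogonal to `w`, counted. -/
noncomputable def inc (A : Finset VV) (w : VV) : ℕ := (A.filter fun v => w ⬝ᵥ v = 0).card

theorem inc_eq {G : Subgroup (GL (Fin 3) F)} {A : Finset VV} (hA : Invt G A) {w z : VV}
    (hz : z ∈ orb (G.map dual) w) : inc A z = inc A w := by
  classical
  obtain ⟨hz0, _, ⟨g, hg, rfl⟩, c, rfl⟩ := mem_orb.1 hz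
  have hc : c ≠ 0 := fun h => hz0 (by rw [h, zero_smul])
  refine Finset.card_nbij' (fun v => ((g⁻¹ : GL (Fin 3) F) : Matrix (Fin 3) (Fin 3) F) *ᵥ v)
    (fun v => (g : Matrix (Fin 3) (Fin 3) F) *ᵥ v) (fun v hv => ?_) (fun v hv => ?_) (fun v _ => ?_)
    (fun v _ => ?_)
  · simp only [Finset.coe_filter, Set.mem_setOf_eq] at hv ⊢
    refine ⟨by simpa using hA.2 _ (G.inv_mem hg) 1 one_ne_zero v hv.1, ?_⟩
    rw [← dot_dual]
    have h := hv.2
    rw [smul_dotProduct] at h
    exact (mul_eq_zero.1 h).resolve_left hc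
  · simp only [Finset.coe_filter, Set.mem_setOf_eq] at hv ⊢
    exact ⟨by simpa using hA.2 _ hg 1 one_ne_zero v hv.1, by rw [smul_dotProduct, dual_dot, hv.2, smul_zero]⟩
  · exact H98.gl_mulVec_inv g v
  · exact H98.gl_inv_mulVec g v

theorem sum_inc (A B : Finset VV) : ∑ w ∈ B, inc A w = ∑ v ∈ A, inc B v := by
  classical
  simp only [inc, Finset.card_filter]
  rw [Finset.sum_comm]
  simp only [dotProduct_comm]

theorem inc_perp (v z : VV) : inc (perp v) z = (perp2 v z).card := by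
  classical
  simp [inc, perp2, dotProduct_comm]

theorem inc_nz (v : VV) : inc nz v = (perp v).card := by
  classical
  simp [inc, perp, dotProduct_comm]

theorem sum_inc_sq (A : Finset VV) :
    ∑ w ∈ nz, inc A w * inc A w = ∑ v ∈ A, ∑ z ∈ A, (perp2 v z).card := by
  classical
  simp only [inc, Finset.card_filter, Finset.sum_mul_sum, perp2, perp, Finset.filter_filter]
  rw [Finset.sum_comm]
  refine Finset.sum_congr rfl fun v _ => ?_
  rw [Finset.sum_comm]
  refine Finset.sum_congr rfl fun z _ => Finset.sum_congr rfl fun w _ => ?_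
  split_ifs <;> simp_all

theorem exists_r : ∃ r : ℕ, r + 1 = Fintype.card F ∧ 1 ≤ r :=
  ⟨Fintype.card F - 1, by have := Fintype.one_lt_card (α := F); omega,
    by have := Fintype.one_lt_card (α := F); omega⟩

/-- Transitive on points gives transitive on lines. -/
theorem pTrans_dual {M : Subgroup (GL (Fin 3) F)} (h : PTrans M) : PTrans (M.map dual) := by
  classical
  obtain ⟨r, hr, hr1⟩ := exists_r (F := F)
  intro w hw
  by_contra hne
  obtain ⟨u, hu, hnot⟩ : ∃ u ∈ (nz : Finset VV), u ∉ orb (M.map dual) w := by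
    by_contra hall
    push Not at hall
    exact hne (Finset.Subset.antisymm (invt_orb _ w).1 hall)
  set A := orb (M.map dual) w with hA
  have hinv : Invt ⊥ A := invt_mono bot_le (invt_orb _ w)
  have hconst : ∀ a ∈ (nz : Finset VV), inc A a = inc A w := fun a ha => by
    refine inc_eq (invt_orb (M.map dual) w) ?_
    rw [map_dual_dual, h w hw]
    exact ha
  have key : ∀ x : VV, x ≠ 0 → ∑ z ∈ A, (perp2 x z).card = (perp x).card * inc A w := fun x _ => by
    simp only [← inc_perp]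
    rw [← sum_inc, Finset.sum_congr rfl fun a ha => hconst a (mem_nz.2 (mem_perp.1 ha).1), Finset.sum_const,
      smul_eq_mul]
  have hc : ∀ x : VV, x ≠ 0 → (perp x).card = r * (r + 2) := fun x hx => by
    have h' := card_perp hx
    rw [← hr] at h'
    have : (r + 1) ^ 2 = r * (r + 2) + 1 := by ring
    omega
  have h1 := sum_perp_two_of_mem hinv (self_mem_orb hw) hr
  rw [key w hw, hc w hw] at h1
  have h2 := sum_perp_two_of_not_mem hinv (mem_nz.1 hu) hnot hr
  rw [key u (mem_nz.1 hu), hc u (mem_nz.1 hu)] at h2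
  nlinarith

/-- Two axes with a common centre. -/
def TwoA (M : Subgroup (GL (Fin 3) F)) : Prop :=
  ∃ a u w : VV, a ≠ 0 ∧ u ≠ 0 ∧ w ≠ 0 ∧ w ∉ orb ⊥ u ∧ El M u a ∧ El M w a

/-- Two centres on a common axis. -/
def TwoC (M : Subgroup (GL (Fin 3) F)) : Prop :=
  ∃ u a b : VV, u ≠ 0 ∧ a ≠ 0 ∧ b ≠ 0 ∧ b ∉ orb ⊥ a ∧ El M u a ∧ El M u b

theorem twoA_of_twoC {M : Subgroup (GL (Fin 3) F)} (h : TwoC M) : TwoA (M.map dual) := by
  obtain ⟨u, a, b, hu, ha, hb, hn, h1, h2⟩ := h
  exact ⟨u, a, b, hu, ha, hb, hn, el_dual h1, el_dual h2⟩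

/-- The evaluation at `b`. -/
def ev (b : VV) : VV →+ F := (dl b).toAddMonoidHom

theorem ev_apply (b u : VV) : ev b u = b ⬝ᵥ u := rfl

theorem dvd_translate (U : AddSubgroup VV) {a : VV} (ha : a ≠ 0) (hU : ∀ u ∈ U, u ⬝ᵥ a = 0) (Q : Finset VV)
    (hQ : ∀ b ∈ Q, ∀ u ∈ U, b + (u ⬝ᵥ b) • a ∈ Q) (m : ℕ) (hm : ∀ b ∈ Q, m ∣ Nat.card (U.map (ev b))) :
    m ∣ Q.card := by
  classical
  let f : VV → Finset VV := fun b => Finset.univ.filter fun y => ∃ c ∈ U.map (ev b), y = b + c • a
  have hev : ∀ b : VV, ∀ c : F, U.map (ev (b + c • a)) = U.map (ev b) := by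
    intro b c
    ext x
    simp only [AddSubgroup.mem_map, ev_apply]
    refine exists_congr fun u => and_congr_right fun hu => ?_
    rw [add_dotProduct, smul_dotProduct, dotProduct_comm a u, hU u hu, smul_zero, add_zero]
  have hf : ∀ b : VV, ∀ y, y ∈ f b → f y = f b := by
    intro b y hy
    simp only [f, Finset.mem_filter, Finset.mem_univ, true_and] at hy
    obtain ⟨c, hc, rfl⟩ := hy
    ext z
    simp only [f, Finset.mem_filter, Finset.mem_univ, true_and, hev]
    constructor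
    · rintro ⟨d, hd, rfl⟩
      exact ⟨c + d, add_mem hc hd, by rw [add_smul, add_assoc]⟩
    · rintro ⟨d, hd, rfl⟩
      exact ⟨d - c, sub_mem hd hc, by rw [sub_smul, add_assoc, add_sub_cancel]⟩
  have hself : ∀ b, b ∈ f b := fun b => by
    simp only [f, Finset.mem_filter, Finset.mem_univ, true_and]
    exact ⟨0, zero_mem _, by simp⟩
  rw [card_eq_sum_classes Q f fun x hx y =>
    ⟨fun h => ⟨?_, hf x y h⟩, fun h => h.2 ▸ hself y⟩]
  · refine Finset.dvd_sum fun O hO => ?_
    obtain ⟨b, hb, rfl⟩ := Finset.mem_image.1 hO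
    suffices e : (f b).card = Nat.card (U.map (ev b)) from e ▸ hm b hb
    rw [← Nat.card_eq_finsetCard]
    refine Nat.card_congr (Equiv.ofBijective (fun c : U.map (ev b) => (⟨b + c.1 • a, ?_⟩ : f b)) ⟨?_, ?_⟩).symm
    · simp only [f, Finset.mem_filter, Finset.mem_univ, true_and]
      exact ⟨c.1, c.2, rfl⟩
    · intro c d h
      exact Subtype.ext (smul_left_injective F ha (add_left_cancel (congrArg Subtype.val h)))
    · rintro ⟨y, hy⟩
      simp only [f, Finset.mem_filter, Finset.mem_univ, true_and] at hy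
      obtain ⟨c, hc, rfl⟩ := hy
      exact ⟨⟨c, hc⟩, rfl⟩
  · simp only [f, Finset.mem_filter, Finset.mem_univ, true_and, AddSubgroup.mem_map, ev_apply] at h
    obtain ⟨c, ⟨u, hu, rfl⟩, rfl⟩ := h
    rw [dotProduct_comm x u]
    exact hQ x hx u hu

theorem card_eq_map_mul (U : AddSubgroup VV) (f : VV →+ F) :
    Nat.card U = Nat.card (U.map f) * Nat.card (U ⊓ f.ker : AddSubgroup VV) := by
  have h := AddSubgroup.card_eq_card_quotient_mul_card_addSubgroup (f.comp U.subtype).ker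
  rw [Nat.card_congr (QuotientAddGroup.quotientKerEquivRange (f.comp U.subtype)).toEquiv,
    AddMonoidHom.range_comp, AddSubgroup.range_subtype] at h
  rw [h]
  congr 1
  exact Nat.card_congr
    { toFun := fun x => ⟨x.1.1, x.1.2, x.2⟩
      invFun := fun x => ⟨⟨x.1, x.2.1⟩, x.2.2⟩
      left_inv := fun x => rfl
      right_inv := fun x => rfl }

theorem prime_dvd_card {p : ℕ} (hp : p.Prime) [CharP F p] {H : AddSubgroup F} {x : F} (hx : x ∈ H)
    (h0 : x ≠ 0) : p ∣ Nat.card H := by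
  have ho : addOrderOf x = p := by
    haveI := Fact.mk hp
    refine addOrderOf_eq_prime ?_ h0
    rw [nsmul_eq_mul, CharP.cast_eq_zero, zero_mul]
  exact ho ▸ H.addOrderOf_dvd_natCard hx

theorem translate_mem {M : Subgroup (GL (Fin 3) F)} {A : Finset VV} (hA : Invt M A) {u a b : VV}
    (h : El M u a) (hb : b ∈ A) : b + (u ⬝ᵥ b) • a ∈ A := by
  obtain ⟨ha, hM⟩ := h
  have := hA.2 _ hM 1 one_ne_zero b hb
  rwa [H98.transGL_mulVec, one_smul, dl_apply] at this

section Counts

variable {M G : Subgroup (GL (Fin 3) F)} (hGM : G ≤ M)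
include hGM

theorem orbit_cases (hG : Regular G) {A : Finset VV} (hA : Invt M A) (hne : A.Nonempty)
    {p : ℕ} (hp : p.Prime) [CharP F p] {r : ℕ} (hr : r + 1 = Fintype.card F) {t : ℕ} (ht : t + r = A.card)
    (hdiv : p ∣ t) :
    A = nz ∨ (p = 2 ∧ Nat.card (rootsOfUnity 3 F) = 3
      ∧ 3 * A.card = r * (Fintype.card F ^ 2 + Fintype.card F + 1)) := by
  classical
  have hq : Fintype.card F - 1 = r := by omega
  have hsum : ∀ B : Finset VV, Invt G B → Nat.card (rootsOfUnity 3 F) * B.card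
      = (B.image (orb G)).card * (r * (Fintype.card F ^ 2 + Fintype.card F + 1)) := by
    intro B hB
    rw [card_eq_sum_classes B (orb G) (orb_classes hB), Finset.mul_sum,
      Finset.sum_congr rfl (g := fun _ => r * (Fintype.card F ^ 2 + Fintype.card F + 1)) fun O hO => ?_,
      Finset.sum_const, smul_eq_mul]
    obtain ⟨x, hx, rfl⟩ := Finset.mem_image.1 hO
    rw [← hq]
    exact hG x (mem_nz.1 (hB.1 hx))
  have hall := hsum nz (invt_nz G)
  have hA' := hsum A (invt_mono hGM hA)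
  have hz : (nz : Finset VV).card = r * (Fintype.card F ^ 2 + Fintype.card F + 1) := by
    have := card_nz (F := F)
    rw [← hr] at this ⊢
    have e : (r + 1) ^ 3 = r * ((r + 1) ^ 2 + (r + 1) + 1) + 1 := by ring
    omega
  rw [← hz] at hall hA'
  set d := Nat.card (rootsOfUnity 3 F) with hd
  set e := (A.image (orb G)).card with he
  have hnz : 0 < (nz : Finset VV).card := Finset.card_pos.2 ⟨_, hA.1 hne.choose_spec⟩
  have hde : (nz.image (orb G)).card = d := (Nat.eq_of_mul_eq_mul_right hnz hall).symm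
  have hle : e ≤ d := hde ▸ Finset.card_le_card (Finset.image_subset_image hA.1)
  have he1 : 1 ≤ e := Finset.card_pos.2 (hne.image _)
  rcases hle.eq_or_lt with heq | hlt
  · refine Or.inl (Finset.eq_of_subset_of_card_le hA.1 (le_of_eq ?_))
    rw [heq] at hA'
    exact (Nat.eq_of_mul_eq_mul_left (by omega) hA').symm
  right
  have hd3 : d = 3 := by rcases roots_card (F := F) with h | h <;> omega
  have hmod : ((d : ZMod p)) = (e : ZMod p) := by
    have h := congrArg (Nat.cast : ℕ → ZMod p) hA'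
    rw [hz, ← ht] at h
    have hq0 : (Fintype.card F : ZMod p) = 0 := by
      obtain ⟨n, -, hn⟩ := FiniteField.card F p
      rw [hn, Nat.cast_pow, ZMod.natCast_self, zero_pow n.ne_zero]
    have hr0 : (r : ZMod p) = -1 := by
      have := congrArg (Nat.cast : ℕ → ZMod p) hr
      push_cast at this
      rw [hq0] at this
      exact eq_neg_of_add_eq_zero_left this
    push_cast at h
    rw [hq0, hr0, (ZMod.natCast_eq_zero_iff t p).2 hdiv] at h
    linear_combination -h
  rw [ZMod.natCast_eq_natCast_iff', hd3] at hmod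
  have h2 := hp.two_le
  have hp2 : p = 2 ∧ e = 1 := by
    have he2 : e = 1 ∨ e = 2 := by omega
    rcases lt_or_ge p 4 with h4 | h4
    · interval_cases p <;> omega
    · rw [Nat.mod_eq_of_lt (by omega : 3 < p), Nat.mod_eq_of_lt (by omega : e < p)] at hmod
      omega
  refine ⟨hp2.1, hd3, ?_⟩
  rw [hd3, hp2.2, one_mul] at hA'
  rw [← hz]
  exact hA'

theorem class_sums (hG' : Regular (G.map dual)) (h3 : Nat.card (rootsOfUnity 3 F) = 3) {A : Finset VV}
    (hA : Invt M A) (hne : A.Nonempty) {r : ℕ} (hr : r + 1 = Fintype.card F)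
    (hcard : 3 * A.card = r * (Fintype.card F ^ 2 + Fintype.card F + 1)) :
    ∃ (w : Fin 3 → VV) (x : Fin 3 → ℕ),
      (∀ i, w i ≠ 0) ∧ (∀ i j, i ≠ j → Disjoint (orb (G.map dual) (w i)) (orb (G.map dual) (w j))) ∧
      (∀ u, u ≠ 0 → ∃ i, u ∈ orb (G.map dual) (w i)) ∧
      (∀ i, (orb (G.map dual) (w i)).card = A.card) ∧
      (∀ i, ∀ u ∈ orb (G.map dual) (w i), inc A u = r * x i) ∧
      x 0 + x 1 + x 2 = Fintype.card F + 1 ∧
      3 * (x 0 ^ 2 + x 1 ^ 2 + x 2 ^ 2) = Fintype.card F ^ 2 + 4 * Fintype.card F + 1 := by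
  classical
  set H := G.map dual with hH
  have hq : Fintype.card F - 1 = r := by omega
  have hc : ∀ u : VV, u ≠ 0 → (orb H u).card = A.card := fun u hu => by
    have := hG' u hu
    rw [h3, hq] at this
    omega
  have hz : (nz : Finset VV).card = 3 * A.card := by
    rw [hcard]
    have := card_nz (F := F)
    rw [← hr] at this ⊢
    have e : (r + 1) ^ 3 = r * ((r + 1) ^ 2 + (r + 1) + 1) + 1 := by ring
    omega
  have hP : 0 < A.card := Finset.card_pos.2 hne
  have him : (nz.image (orb H)).card = 3 := by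
    have h := card_eq_sum_classes nz (orb H) (orb_classes (invt_nz H))
    rw [Finset.sum_congr rfl (g := fun _ => A.card) fun O hO => by
      obtain ⟨x, hx, rfl⟩ := Finset.mem_image.1 hO
      exact hc x (mem_nz.1 hx), Finset.sum_const, smul_eq_mul, hz] at h
    exact (Nat.eq_of_mul_eq_mul_right hP h).symm
  obtain ⟨C0, C1, C2, h01, h02, h12, himg⟩ := Finset.card_eq_three.1 him
  have hex : ∀ C ∈ nz.image (orb H), ∃ u : VV, u ≠ 0 ∧ orb H u = C := fun C hC => by
    obtain ⟨u, hu, rfl⟩ := Finset.mem_image.1 hC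
    exact ⟨u, mem_nz.1 hu, rfl⟩
  rw [himg] at hex
  obtain ⟨u0, hu0, rfl⟩ := hex C0 (by simp)
  obtain ⟨u1, hu1, rfl⟩ := hex C1 (by simp)
  obtain ⟨u2, hu2, rfl⟩ := hex C2 (by simp)
  have hA0 : Invt ⊥ A := invt_mono bot_le hA
  have hdiv : ∀ u : VV, r ∣ inc A u := fun u => by
    refine dvd_card_invt (A := A.filter fun v => u ⬝ᵥ v = 0) ⟨fun v hv => hA.1 (Finset.mem_filter.1 hv).1,
      fun g hg c hc v hv => Finset.mem_filter.2 ⟨hA0.2 g hg c hc v (Finset.mem_filter.1 hv).1, ?_⟩⟩ hr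
    obtain rfl := Subgroup.mem_bot.1 hg
    rw [Units.val_one, Matrix.one_mulVec, dotProduct_smul, (Finset.mem_filter.1 hv).2, smul_zero]
  choose y hy using hdiv
  have hconst : ∀ u z : VV, z ∈ orb H u → inc A z = r * y u := fun u z hz => by
    rw [inc_eq (invt_mono hGM hA) hz, hy]
  have hdisj : ∀ u z : VV, orb H u ≠ orb H z → Disjoint (orb H u) (orb H z) := fun u z h =>
    Finset.disjoint_left.2 fun x hxu hxz => h ((orb_eq_of_mem hxu).symm.trans (orb_eq_of_mem hxz))
  have hcover : ∀ u : VV, u ≠ 0 → orb H u = orb H u0 ∨ orb H u = orb H u1 ∨ orb H u = orb H u2 := fun u hu => by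
    have : orb H u ∈ nz.image (orb H) := Finset.mem_image_of_mem _ (mem_nz.2 hu)
    rw [himg] at this
    simpa using this
  have hsum : ∀ f : ℕ → ℕ, ∑ w ∈ nz, f (inc A w) = A.card * (f (r * y u0) + f (r * y u1) + f (r * y u2)) := by
    intro f
    have hnz : (nz : Finset VV) = orb H u0 ∪ orb H u1 ∪ orb H u2 := by
      ext z
      simp only [Finset.mem_union, mem_nz]
      refine ⟨fun hz => ?_, fun h => ?_⟩
      · have hs : z ∈ orb H z := self_mem_orb hz
        rcases hcover z hz with h | h | h <;> rw [h] at hs <;> simp [hs]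
      · rcases h with (h | h) | h <;> exact (mem_orb.1 h).1
    rw [hnz, Finset.sum_union (Finset.disjoint_union_left.2 ⟨hdisj _ _ h02, hdisj _ _ h12⟩),
      Finset.sum_union (hdisj _ _ h01)]
    rw [Finset.sum_congr rfl fun z hz => congrArg f (hconst u0 z hz),
      Finset.sum_congr rfl fun z hz => congrArg f (hconst u1 z hz),
      Finset.sum_congr rfl fun z hz => congrArg f (hconst u2 z hz)]
    simp only [Finset.sum_const, smul_eq_mul, hc u0 hu0, hc u1 hu1, hc u2 hu2]
    ring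
  have hperp : ∀ v ∈ A, (perp v).card = r * (r + 2) := fun v hv => by
    have h' := card_perp (mem_nz.1 (hA.1 hv))
    rw [← hr] at h'
    have : (r + 1) ^ 2 = r * (r + 2) + 1 := by ring
    omega
  have hr0 : 0 < r := by have := Fintype.one_lt_card (α := F); omega
  have hs1 := hsum id
  simp only [id] at hs1
  rw [sum_inc, Finset.sum_congr rfl fun v hv => (inc_nz v).trans (hperp v hv), Finset.sum_const,
    smul_eq_mul] at hs1
  have hy1 : y u0 + y u1 + y u2 = r + 2 :=
    Nat.eq_of_mul_eq_mul_left (Nat.mul_pos hP hr0) (by linarith [hs1])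
  have hs2 := hsum fun n => n * n
  rw [sum_inc_sq] at hs2
  have hs3 : (∑ v ∈ A, ∑ z ∈ A, (perp2 v z).card) + A.card * (r * r)
      = A.card * (r * (r * (r + 2)) + A.card * r) := by
    rw [← smul_eq_mul A.card (r * r), ← Finset.sum_const, ← Finset.sum_add_distrib,
      Finset.sum_congr rfl fun v hv => sum_perp_two_of_mem hA0 hv hr, Finset.sum_const, smul_eq_mul]
  rw [hs2] at hs3
  have hy2 : 3 * (y u0 ^ 2 + y u1 ^ 2 + y u2 ^ 2) + 3 = 3 * (r + 2) + (Fintype.card F ^ 2 + Fintype.card F + 1) := by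
    refine Nat.eq_of_mul_eq_mul_left (Nat.mul_pos hP (Nat.mul_pos hr0 hr0)) ?_
    linear_combination 3 * hs3 + (A.card * r) * hcard
  have hw : ∀ i : Fin 3, ![u0, u1, u2] i ≠ 0 := fun i => by fin_cases i <;> simp [hu0, hu1, hu2]
  have hne3 : ∀ i j : Fin 3, i ≠ j → orb H (![u0, u1, u2] i) ≠ orb H (![u0, u1, u2] j) := fun i j hij => by
    fin_cases i <;> fin_cases j <;> simp [h01, h02, h12, h01.symm, h02.symm, h12.symm] at hij ⊢
  refine ⟨![u0, u1, u2], fun i => y (![u0, u1, u2] i), hw, fun i j hij => hdisj _ _ (hne3 i j hij),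
    fun u hu => ?_, fun i => hc _ (hw i), fun i u hu => hconst _ u hu, ?_, ?_⟩
  · have hs : u ∈ orb H u := self_mem_orb hu
    rcases hcover u hu with h | h | h <;> rw [h] at hs
    exacts [⟨0, hs⟩, ⟨1, hs⟩, ⟨2, hs⟩]
  · simp; omega
  · simp; rw [← hr] at hy2 ⊢; linarith

theorem four_dvd (h3 : Nat.card (rootsOfUnity 3 F) = 3) [CharP F 2] :
    4 ∣ Fintype.card F ∧ Fintype.card F % 3 = 1 := by
  classical
  have h : 3 ∣ Fintype.card Fˣ := by
    rw [← h3, ← Nat.card_eq_fintype_card]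
    exact Subgroup.card_subgroup_dvd_card _
  rw [Fintype.card_units] at h
  have := Fintype.one_lt_card (α := F)
  obtain ⟨n, -, hn⟩ := FiniteField.card F 2
  obtain ⟨m, hm⟩ : ∃ m, (n : ℕ) = m + 1 := ⟨n - 1, by have := n.pos; omega⟩
  rw [hm, pow_succ] at hn
  rcases Nat.eq_zero_or_pos m with rfl | hm0
  · rw [hn] at h; norm_num at h
  · refine ⟨⟨2 ^ (m - 1), ?_⟩, by omega⟩
    obtain ⟨k, rfl⟩ : ∃ k, m = k + 1 := ⟨m - 1, by omega⟩
    rw [hn, Nat.add_sub_cancel, pow_succ]
    ring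

end Counts

theorem arith_one {q : ℕ} {x : Fin 3 → ℕ} (hq : 8 ≤ q) (hs : x 0 + x 1 + x 2 = q + 1)
    (hs2 : 3 * (x 0 ^ 2 + x 1 ^ 2 + x 2 ^ 2) = q ^ 2 + 4 * q + 1) (i : Fin 3) (hi : x i = 1) : False := by
  fin_cases i <;> simp at hi <;> rw [hi] at hs hs2
  · nlinarith [two_mul_le_add_sq (x 1) (x 2)]
  · nlinarith [two_mul_le_add_sq (x 0) (x 2)]
  · nlinarith [two_mul_le_add_sq (x 0) (x 1)]

theorem arith_sq {q a b c : ℕ} (h4 : 4 ∣ q) (h3 : q % 3 = 1) (hq : q ≠ 4) (hs : a + b + c = q + 1)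
    (hs2 : 3 * (a ^ 2 + b ^ 2 + c ^ 2) = q ^ 2 + 4 * q + 1) (ha : a = 0 ∨ a % 4 = 1 ∨ a = 3)
    (hb : b = 0 ∨ b % 4 = 1) (hc : c = 0 ∨ c % 4 = 1) : False := by
  obtain ⟨k, rfl⟩ := h4
  rcases ha with rfl | ha | rfl
  · rcases hb with rfl | hb <;> rcases hc with rfl | hc <;> first | omega | nlinarith
  · rcases hb with rfl | hb <;> rcases hc with rfl | hc <;> first | omega | nlinarith
  · rcases hb with rfl | hb <;> rcases hc with rfl | hc
    · omega
    · omega
    · omega
    · have hk : k ≤ 4 := by nlinarith [two_mul_le_add_sq b c]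
      interval_cases k
      · omega
      · omega
      · omega
      · omega
      · have hb14 : b ≤ 14 := by omega
        have hc14 : c ≤ 14 := by omega
        interval_cases b <;> first | omega | (interval_cases c <;> omega)

section Main

variable {M G : Subgroup (GL (Fin 3) F)} (hGM : G ≤ M) (hG : Regular G) (hG' : Regular (G.map dual))
  (h4 : Fintype.card F ≠ 4)
include hGM hG hG' h4

theorem pTrans_of_twoA (h : TwoA M) : PTrans M := by
  classical
  obtain ⟨a, u1, u2, ha, hu1, hu2, hind, he1, he2⟩ := h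
  obtain ⟨r, hr, hr1⟩ := exists_r (F := F)
  obtain ⟨p, hcp⟩ := CharP.exists F
  haveI := hcp
  have hp : p.Prime := CharP.char_is_prime F p
  set A := orb M a with hAdef
  have hA : Invt M A := invt_orb M a
  set U := axes M a with hU
  have hUa : ∀ u ∈ U, u ⬝ᵥ a = 0 := fun u hu => El.dot hu
  suffices hall : A = nz by
    intro v hv
    rw [orb_eq_of_mem (hall ▸ mem_nz.2 hv : v ∈ A)]
    exact hall
  have hline : ∀ b : VV, b ≠ 0 → b ∉ orb ⊥ a → ∃ x ∈ U.map (ev b), x ≠ 0 := by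
    intro b hb hn
    by_contra hno
    push Not at hno
    have h1 := hno _ ⟨u1, he1, rfl⟩
    have h2 := hno _ ⟨u2, he2, rfl⟩
    rw [ev_apply, dotProduct_comm] at h1 h2
    obtain ⟨c, hc⟩ := perp_unique ha hb hn hu1 he1.dot h1 he2.dot h2
    exact hind (mem_orb.2 ⟨hu2, 1, rfl, c, by simp [hc]⟩)
  have hsub : orb ⊥ a ⊆ A := orb_subset (invt_mono bot_le hA) (self_mem_orb ha)
  have hout : ∀ (B : Finset VV), (∀ b ∈ B, b ∈ A) → ∀ b ∈ B \ orb ⊥ a, ∀ u ∈ U,
      b + (u ⬝ᵥ b) • a ∈ A ∧ b + (u ⬝ᵥ b) • a ∉ orb ⊥ a := by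
    intro B hB b hb u hu
    rw [Finset.mem_sdiff] at hb
    refine ⟨translate_mem hA hu (hB b hb.1), fun h => ?_⟩
    obtain ⟨-, g, rfl, c, hc⟩ := mem_orb.1 h
    refine hb.2 (mem_orb.2 ⟨mem_nz.1 (hA.1 (hB b hb.1)), 1, rfl, c - u ⬝ᵥ b, ?_⟩)
    simp only [Units.val_one, Matrix.one_mulVec] at hc ⊢
    rw [sub_smul, ← hc, add_sub_cancel_right]
  have hpd : p ∣ (A \ orb ⊥ a).card := by
    refine dvd_translate U ha hUa _ (fun b hb u hu => Finset.mem_sdiff.2 (hout A (fun _ h => h) b hb u hu)) p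
      fun b hb => ?_
    rw [Finset.mem_sdiff] at hb
    obtain ⟨x, hx, hx0⟩ := hline b (mem_nz.1 (hA.1 hb.1)) hb.2
    exact prime_dvd_card hp hx hx0
  have hca : (orb (⊥ : Subgroup (GL (Fin 3) F)) a).card = r := by have := card_orb_bot ha; omega
  have hAc : (A \ orb ⊥ a).card + r = A.card := by
    rw [← hca]; exact Finset.card_sdiff_add_card_eq_card hsub
  rcases orbit_cases hGM hG hA ⟨a, self_mem_orb ha⟩ hp hr hAc hpd with h | ⟨rfl, h3, hcard⟩
  · exact h
  exfalso
  obtain ⟨w, x, hw0, hdisj, -, hwc, hinc, hs1, hs2⟩ := class_sums hGM hG' h3 hA ⟨a, self_mem_orb ha⟩ hr hcard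
  obtain ⟨hq4, hq3⟩ := four_dvd hGM h3 (F := F)
  have hAG : A = orb G a := (Finset.eq_of_subset_of_card_le
    (orb_subset (invt_mono hGM hA) (self_mem_orb ha)) (le_of_eq (by
      have := hG a ha
      rw [h3, show Fintype.card F - 1 = r by omega] at this
      omega))).symm
  -- in each class, as many lines pass through `a` as there are points of `A` on a line
  have hY : ∀ i, inc (orb (G.map dual) (w i)) a = r * x i := fun i => by
    have hconst : ∀ b ∈ A, inc (orb (G.map dual) (w i)) b = inc (orb (G.map dual) (w i)) a := fun b hb => by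
      refine inc_eq (invt_orb _ _) ?_
      rw [map_dual_dual, ← hAG]
      exact hb
    have h := sum_inc A (orb (G.map dual) (w i))
    rw [Finset.sum_congr rfl (hinc i), Finset.sum_congr rfl hconst, Finset.sum_const, Finset.sum_const,
      smul_eq_mul, smul_eq_mul, hwc] at h
    exact (Nat.eq_of_mul_eq_mul_left (Finset.card_pos.2 ⟨a, self_mem_orb ha⟩) h).symm
  let line : VV → AddSubgroup VV := fun z => (Submodule.span F {z}).toAddSubgroup
  have hmemline : ∀ {z v : VV}, v ∈ line z ↔ ∃ c : F, c • z = v := fun {z v} =>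
    (Submodule.mem_toAddSubgroup _).trans Submodule.mem_span_singleton
  have hker : ∀ z b : VV, z ≠ 0 → z ⬝ᵥ a = 0 → z ⬝ᵥ b = 0 → b ≠ 0 → b ∉ orb ⊥ a →
      U ⊓ (ev b).ker = U ⊓ line z := by
    intro z b hz hza hzb hb hn
    ext v
    simp only [AddSubgroup.mem_inf, AddMonoidHom.mem_ker, ev_apply, hmemline]
    refine and_congr_right fun hv => ⟨fun hvb => ?_, ?_⟩
    · obtain ⟨c, hc⟩ := perp_unique ha hb hn hz hza hzb (hUa v hv) ((dotProduct_comm v b).trans hvb)
      exact ⟨c, hc.symm⟩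
    · rintro ⟨c, rfl⟩
      rw [dotProduct_smul, dotProduct_comm, hzb, smul_zero]
  let W3 : Finset VV := (perp a).filter fun z => Nat.card U = 2 * Nat.card (U ⊓ line z : AddSubgroup VV)
  have hfour : 4 ≤ Nat.card U := by
    have hne : ∀ c : F, u2 ≠ c • u1 := fun c hc => hind (mem_orb.2 ⟨hu2, 1, rfl, c, by simp [hc]⟩)
    have h12 : u1 ≠ u2 := fun h => hne 1 (by rw [one_smul, h])
    have h3' : u1 + u2 ≠ 0 := fun h => hne (-1) (by rw [neg_one_smul]; exact eq_neg_of_add_eq_zero_right h)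
    rw [Nat.card_eq_fintype_card, Fintype.card_subtype]
    calc 4 = ({0, u1, u2, u1 + u2} : Finset VV).card := by
          simp [Ne.symm hu1, Ne.symm hu2, h12, Ne.symm h3', hu1, hu2]
      _ ≤ _ := Finset.card_le_card fun v hv => by
          simp only [Finset.mem_insert, Finset.mem_singleton] at hv
          refine Finset.mem_filter.2 ⟨Finset.mem_univ _, ?_⟩
          rcases hv with rfl | rfl | rfl | rfl
          exacts [zero_mem _, he1, he2, add_mem he1 he2]
  have hW3 : W3.card ≤ 3 * r := by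
    rcases W3.eq_empty_or_nonempty with h | ⟨z, hz⟩
    · simp [h]
    by_cases hprop : W3 ⊆ orb ⊥ z
    · have := card_orb_bot (mem_perp.1 (Finset.mem_filter.1 hz).1).1
      exact (Finset.card_le_card hprop).trans (by omega)
    obtain ⟨z', hz', hzz⟩ := Finset.not_subset.1 hprop
    have hmul : Nat.card (U ⊓ line z : AddSubgroup VV) * Nat.card (U ⊓ line z' : AddSubgroup VV)
        ≤ Nat.card U := by
      rw [← Nat.card_prod]
      refine Nat.card_le_card_of_injective (fun v => (⟨v.1.1 + v.2.1, add_mem v.1.2.1 v.2.2.1⟩ : U)) ?_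
      rintro ⟨⟨v, hv⟩, ⟨v', hv'⟩⟩ ⟨⟨y, hy⟩, ⟨y', hy'⟩⟩ h
      have h : v + v' = y + y' := congrArg Subtype.val h
      obtain ⟨c, hc⟩ := hmemline.1 (sub_mem hv.2 hy.2)
      obtain ⟨d, hd⟩ := hmemline.1 (sub_mem hy'.2 hv'.2)
      have hcd : c • z = d • z' := by rw [hc, hd]; linear_combination (norm := abel) h
      have hz'0 := (mem_perp.1 (Finset.mem_filter.1 hz').1).1
      have hd0 : d = 0 := by
        by_contra hd0
        exact hzz (mem_orb.2 ⟨hz'0, 1, rfl, c / d, by
          simp [div_eq_inv_mul, ← smul_smul, hcd, hd0]⟩)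
      rw [hd0, zero_smul] at hd hcd
      have e1 : v = y := sub_eq_zero.1 (hc.symm.trans hcd)
      have e2 : v' = y' := (sub_eq_zero.1 hd.symm).symm
      subst e1; subst e2; rfl
    have hcz := (Finset.mem_filter.1 hz).2
    have hcz' := (Finset.mem_filter.1 hz').2
    have hle : Nat.card U * Nat.card U ≤ 4 * Nat.card U := by
      calc Nat.card U * Nat.card U
          = 4 * (Nat.card (U ⊓ line z : AddSubgroup VV) * Nat.card (U ⊓ line z' : AddSubgroup VV)) := by
            nth_rw 1 [hcz]; rw [hcz']; ring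
        _ ≤ 4 * Nat.card U := by omega
    have hU4 : Nat.card U = 4 := le_antisymm (Nat.le_of_mul_le_mul_right hle (by omega)) hfour
    let S : Finset VV := (Finset.univ.filter fun v => v ∈ U).erase 0
    have hS : S.card + 1 = 4 := by
      rw [Finset.card_erase_add_one (by simp [zero_mem]), ← hU4, Nat.card_eq_fintype_card, Fintype.card_subtype]
    have hsubW : W3 ⊆ S.biUnion (orb ⊥) := by
      intro y hy
      obtain ⟨hya, hyc⟩ := Finset.mem_filter.1 hy
      haveI : Nontrivial (U ⊓ line y : AddSubgroup VV) := Finite.one_lt_card_iff_nontrivial.1 (by omega)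
      obtain ⟨⟨v, hv⟩, hv0⟩ := exists_ne (0 : (U ⊓ line y : AddSubgroup VV))
      have hv0' : v ≠ 0 := fun h => hv0 (Subtype.ext h)
      obtain ⟨c, hc⟩ := hmemline.1 hv.2
      refine Finset.mem_biUnion.2 ⟨v, Finset.mem_erase.2 ⟨hv0', Finset.mem_filter.2 ⟨Finset.mem_univ _, hv.1⟩⟩, ?_⟩
      have hc0 : c ≠ 0 := fun h => hv0' (by rw [← hc, h, zero_smul])
      exact mem_orb.2 ⟨(mem_perp.1 hya).1, 1, rfl, c⁻¹, by simp [← hc, smul_smul, hc0]⟩
    refine (Finset.card_le_card hsubW).trans ((Finset.card_biUnion_le_card_mul _ _ r fun v hv => ?_).trans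
      (by rw [show S.card = 3 by omega]))
    have := card_orb_bot (Finset.mem_erase.1 hv).1
    omega
  -- the lines of a class through `a`
  have hL : ∀ i, x i ≠ 0 → x i % 2 = 1 ∧ (x i % 4 = 3 →
      (orb (G.map dual) (w i)).filter (fun z => a ⬝ᵥ z = 0) ⊆ W3) := by
    intro i hxi
    have key : ∀ z ∈ (orb (G.map dual) (w i)).filter (fun z => a ⬝ᵥ z = 0),
        x i % 2 = 1 ∧ (x i % 4 = 3 → z ∈ W3) := by
      intro z hz
      obtain ⟨hzC, hza⟩ := Finset.mem_filter.1 hz
      have hz0 := (mem_orb.1 hzC).1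
      rw [dotProduct_comm] at hza
      set B := A.filter fun v => z ⬝ᵥ v = 0 with hBdef
      have hsubB : orb ⊥ a ⊆ B := fun v hv => by
        refine Finset.mem_filter.2 ⟨hsub hv, ?_⟩
        obtain ⟨-, g, rfl, c, rfl⟩ := mem_orb.1 hv
        simp [hza]
      have hBc : (B \ orb ⊥ a).card + r = r * x i := by
        rw [← hinc i z hzC, ← hca]
        exact Finset.card_sdiff_add_card_eq_card hsubB
      have hinv : ∀ b ∈ B \ orb ⊥ a, ∀ u ∈ U, b + (u ⬝ᵥ b) • a ∈ B \ orb ⊥ a := fun b hb u hu => by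
        obtain ⟨h1, h2⟩ := hout B (fun v hv => (Finset.mem_filter.1 hv).1) b hb u hu
        refine Finset.mem_sdiff.2 ⟨Finset.mem_filter.2 ⟨h1, ?_⟩, h2⟩
        rw [dotProduct_add, dotProduct_smul, hza, (Finset.mem_filter.1 (Finset.mem_sdiff.1 hb).1).2,
          smul_zero, add_zero]
      obtain ⟨k, hk⟩ : ∃ k, Fintype.card F = 2 * k := ⟨Fintype.card F / 2, by omega⟩
      have h2 : 2 ∣ (B \ orb ⊥ a).card := dvd_translate U ha hUa _ hinv 2 fun b hb => by
        rw [Finset.mem_sdiff] at hb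
        obtain ⟨y, hy, hy0⟩ := hline b (mem_nz.1 (hA.1 (Finset.mem_filter.1 hb.1).1)) hb.2
        exact prime_dvd_card Nat.prime_two hy hy0
      have hr2 : r % 4 = 3 := by omega
      have hodd : x i % 2 = 1 := by
        obtain ⟨t, ht⟩ := h2
        rcases Nat.mod_two_eq_zero_or_one (x i) with h | h
        · exfalso
          have : (r * x i) % 2 = 0 := by rw [Nat.mul_mod, h, Nat.mul_zero, Nat.zero_mod]
          omega
        · exact h
      refine ⟨hodd, fun h34 => Finset.mem_filter.2 ⟨mem_perp.2 ⟨hz0, hza⟩, ?_⟩⟩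
      by_contra hne2
      have h4' : 4 ∣ (B \ orb ⊥ a).card := dvd_translate U ha hUa _ hinv 4 fun b hb => by
        rw [Finset.mem_sdiff] at hb
        obtain ⟨hbA, hzb⟩ := Finset.mem_filter.1 hb.1
        have hb0 := mem_nz.1 (hA.1 hbA)
        have heq := card_eq_map_mul U (ev b)
        rw [hker z b hz0 hza hzb hb0 hb.2] at heq
        obtain ⟨n, -, hn⟩ := FiniteField.card F 2
        have hdvd : Nat.card (U.map (ev b)) ∣ 2 ^ (n : ℕ) := by
          rw [← hn, ← Nat.card_eq_fintype_card]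
          exact AddSubgroup.card_addSubgroup_dvd_card _
        obtain ⟨m, -, hm⟩ := (Nat.dvd_prime_pow Nat.prime_two).1 hdvd
        obtain ⟨y, hy, hy0⟩ := hline b hb0 hb.2
        have h2' := prime_dvd_card Nat.prime_two hy hy0
        rw [hm] at heq h2' ⊢
        match m with
        | 0 => simp at h2'
        | 1 => exact absurd (by simpa using heq) hne2
        | m + 2 => exact ⟨2 ^ m, by ring⟩
      have : (r * x i) % 4 = 1 := by rw [Nat.mul_mod, hr2, h34]
      omega
    have hne : ((orb (G.map dual) (w i)).filter fun z => a ⬝ᵥ z = 0).Nonempty := by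
      rw [← Finset.card_pos]
      have := hY i
      unfold inc at this
      rw [this]
      exact Nat.mul_pos hr1 (Nat.pos_of_ne_zero hxi)
    exact ⟨(key _ hne.choose_spec).1, fun h z hz => (key z hz).2 h⟩
  have hle3 : ∀ i, x i % 4 = 3 → x i = 3 ∧ ∀ j, j ≠ i → x j % 4 ≠ 3 := by
    intro i hi
    have hcardi : ∀ j, ((orb (G.map dual) (w j)).filter fun z => a ⬝ᵥ z = 0).card = r * x j := fun j => hY j
    have hi3 := (hL i (by omega)).2 hi
    have hle := (Finset.card_le_card hi3).trans hW3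
    rw [hcardi, mul_comm 3 r] at hle
    have hle' := Nat.le_of_mul_le_mul_left hle hr1
    refine ⟨by omega, fun j hji hj => ?_⟩
    have hj3 := (hL j (by omega)).2 hj
    have hd := Finset.card_le_card (Finset.union_subset hi3 hj3)
    rw [Finset.card_union_of_disjoint (Finset.disjoint_filter_filter (hdisj i j (Ne.symm hji))), hcardi, hcardi,
      ← mul_add] at hd
    have hd' := Nat.le_of_mul_le_mul_left ((hd.trans hW3).trans_eq (mul_comm 3 r)) hr1
    omega
  have hcase : ∀ i, x i = 0 ∨ x i % 4 = 1 ∨ x i = 3 := fun i => by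
    by_cases h : x i = 0
    · exact Or.inl h
    · have := (hL i h).1
      by_cases h' : x i % 4 = 3
      · exact Or.inr (Or.inr (hle3 i h').1)
      · omega
  by_cases h0 : x 0 % 4 = 3
  · have := (hle3 0 h0).2 1 (by decide); have := (hle3 0 h0).2 2 (by decide)
    exact arith_sq hq4 hq3 h4 hs1 hs2 (hcase 0) (by have := hcase 1; omega) (by have := hcase 2; omega)
  by_cases h1 : x 1 % 4 = 3
  · have := (hle3 1 h1).2 0 (by decide); have := (hle3 1 h1).2 2 (by decide)
    exact arith_sq hq4 hq3 h4 (a := x 1) (b := x 0) (c := x 2) (by omega) (by linarith) (hcase 1)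
      (by have := hcase 0; omega) (by have := hcase 2; omega)
  · exact arith_sq hq4 hq3 h4 (a := x 2) (b := x 0) (c := x 1) (by omega) (by linarith) (hcase 2)
      (by have := hcase 0; omega) (by have := hcase 1; omega)

theorem two_or_two {u a : VV} (hu : u ≠ 0) (ha : a ≠ 0) (he : El M u a) : TwoA M ∨ TwoC M := by
  classical
  by_contra hno
  rw [not_or] at hno
  obtain ⟨hnA, hnC⟩ := hno
  obtain ⟨r, hr, hr1⟩ := exists_r (F := F)
  obtain ⟨p, hcp⟩ := CharP.exists F
  haveI := hcp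
  have hp : p.Prime := CharP.char_is_prime F p
  set A := orb M a with hAdef
  have hA : Invt M A := invt_orb M a
  set τ := H98.transGL (dl u) a he.1 with hτ
  have hfix : A.filter (fun v => u ⬝ᵥ v = 0) = orb ⊥ a := by
    refine Finset.Subset.antisymm (fun b hb => ?_) (fun b hb => ?_)
    · obtain ⟨hbA, hub⟩ := Finset.mem_filter.1 hb
      by_contra hn
      obtain ⟨hb0, g, hg, c, hbc⟩ := mem_orb.1 hbA
      have hc : c ≠ 0 := fun h => hb0 (by rw [hbc, h, zero_smul])
      set z := c⁻¹ • ((dual g : Matrix (Fin 3) (Fin 3) F) *ᵥ u) with hzdef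
      have hez : El M z b := by
        rw [hbc, el_smul_iff, hzdef, smul_smul, mul_inv_cancel₀ hc, one_smul]
        exact el_conj hg he
      have hdu : (dual g : Matrix (Fin 3) (Fin 3) F) *ᵥ u ≠ 0 := fun h => hu (by
        apply H98.gl_mulVec_injective (dual g)
        show (dual g : Matrix (Fin 3) (Fin 3) F) *ᵥ u = (dual g : Matrix (Fin 3) (Fin 3) F) *ᵥ 0
        rw [h, Matrix.mulVec_zero])
      have hz0 : z ≠ 0 := smul_ne_zero (inv_ne_zero hc) hdu
      have hτb : (τ : Matrix (Fin 3) (Fin 3) F) *ᵥ b = b := by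
        rw [hτ, H98.transGL_mulVec, dl_apply, hub, zero_smul, add_zero]
      have hez' : El M ((dual τ : Matrix (Fin 3) (Fin 3) F) *ᵥ z) b := hτb ▸ el_conj he.2 hez
      set z' := (dual τ : Matrix (Fin 3) (Fin 3) F) *ᵥ z with hz'def
      have hz' : z = z' + (z ⬝ᵥ a) • u := dotProduct_eq _ _ fun y => by
        have h1 := dual_dot τ z y
        rw [← hz'def, hτ, H98.transGL_mulVec, dl_apply, dotProduct_add, dotProduct_smul] at h1
        have h2 := dual_dot τ z a
        rw [← hz'def, hτ, H98.transGL_mulVec, dl_apply, show u ⬝ᵥ a = 0 from he.1, zero_smul, add_zero] at h2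
        rw [← h1, add_dotProduct, smul_dotProduct, h2]
        simp [mul_comm]
      have hmul : ∃ d : F, d ≠ 0 ∧ u = d • z := by
        obtain ⟨d, hd⟩ : ∃ d : F, u = d • z := by
          rcases eq_or_ne (z ⬝ᵥ a) 0 with hza | hza
          · exact perp_unique ha hb0 hn hz0 hza hez.dot he.dot hub
          rcases eq_or_ne z' 0 with h0 | h0
          · rw [h0, zero_add] at hz'
            exact ⟨(z ⬝ᵥ a)⁻¹, by rw [hz', smul_smul, ← hz', inv_mul_cancel₀ hza, one_smul]⟩
          by_cases hmem : z' ∈ orb ⊥ z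
          · obtain ⟨-, g', rfl, d, hd⟩ := mem_orb.1 hmem
            simp only [Units.val_one, Matrix.one_mulVec] at hd
            refine ⟨(z ⬝ᵥ a)⁻¹ * (1 - d), ?_⟩
            rw [← smul_smul, sub_smul, one_smul, ← hd]
            nth_rw 2 [hz']
            rw [add_sub_cancel_left, smul_smul, inv_mul_cancel₀ hza, one_smul]
          · exact absurd ⟨b, z, z', hb0, hz0, h0, hmem, hez, hez'⟩ hnA
        exact ⟨d, fun h => hu (by rw [hd, h, zero_smul]), hd⟩
      obtain ⟨d, hd0, hdz⟩ := hmul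
      refine hnC ⟨u, a, d⁻¹ • b, hu, ha, smul_ne_zero (inv_ne_zero hd0) hb0, fun h => hn ?_, he, ?_⟩
      · have := (invt_orb ⊥ a).2 1 rfl d hd0 _ h
        simpa [hd0] using this
      · rw [el_smul_iff, hdz, smul_smul, inv_mul_cancel₀ hd0, one_smul]
        exact hez
    · refine Finset.mem_filter.2 ⟨orb_subset (invt_mono bot_le hA) (self_mem_orb ha) hb, ?_⟩
      obtain ⟨-, g, rfl, c, rfl⟩ := mem_orb.1 hb
      simp [he.dot]
  have hinc0 : inc A u = r := by
    have := card_orb_bot ha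
    unfold inc
    rw [hfix]
    omega
  have hpd : p ∣ (A.filter fun v => ¬u ⬝ᵥ v = 0).card := by
    refine dvd_translate (axes M a) ha (fun v hv => El.dot hv) _ (fun b hb v hv => ?_) p fun b hb => ?_
    · obtain ⟨hbA, hub⟩ := Finset.mem_filter.1 hb
      refine Finset.mem_filter.2 ⟨translate_mem hA hv hbA, ?_⟩
      rw [dotProduct_add, dotProduct_smul, he.dot, smul_zero, add_zero]
      exact hub
    · obtain ⟨hbA, hub⟩ := Finset.mem_filter.1 hb
      refine prime_dvd_card hp ⟨u, he, rfl⟩ ?_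
      rw [ev_apply, dotProduct_comm]
      exact hub
  have hAc : (A.filter fun v => ¬u ⬝ᵥ v = 0).card + r = A.card := by
    rw [← hinc0, add_comm]
    exact Finset.card_filter_add_card_filter_not _
  rcases orbit_cases hGM hG hA ⟨a, self_mem_orb ha⟩ hp hr hAc hpd with h | ⟨rfl, h3, hcard⟩
  · rw [h, inc_nz] at hinc0
    have h' := card_perp hu
    rw [hinc0, ← hr] at h'
    nlinarith
  obtain ⟨w, x, -, -, hcov, -, hinc, hs1, hs2⟩ := class_sums hGM hG' h3 hA ⟨a, self_mem_orb ha⟩ hr hcard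
  obtain ⟨hq4, hq3⟩ := four_dvd hGM h3 (F := F)
  obtain ⟨i, hi⟩ := hcov u hu
  have hxi : r * x i = r * 1 := by rw [← hinc i u hi, hinc0, mul_one]
  exact arith_one (by omega) hs1 hs2 i (Nat.eq_of_mul_eq_mul_left hr1 hxi)

end Main

theorem pointTransitive_of_pTrans {M : Subgroup (GL (Fin 3) F)} (h : PTrans M) : PointTransitive M := by
  intro a b ha hb
  obtain ⟨-, g, hg, c, hc⟩ := mem_orb.1 ((h a ha).symm ▸ mem_nz.2 hb : b ∈ orb M a)
  have hc0 : c ≠ 0 := fun h => hb (by rw [hc, h, zero_smul])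
  exact ⟨g, hg, c⁻¹, by rw [hc, smul_smul, inv_mul_cancel₀ hc0, one_smul]⟩

theorem twoC_of_twoA {M : Subgroup (GL (Fin 3) F)} (hM : PTrans M) (h : TwoA M) : TwoC M := by
  classical
  obtain ⟨a₀, u₀, w₀, ha₀, hu₀, hw₀, hn₀, he₁, he₂⟩ := h
  by_contra hno
  obtain ⟨r, hr, hr1⟩ := exists_r (F := F)
  let R : VV → VV → Prop := fun u b => ∃ c : F, c ≠ 0 ∧ El M (c • u) b
  have hrow : ∀ u ∈ (nz : Finset VV), ((nz : Finset VV).filter fun b => R u b).card ≤ r := fun u hu => by
    rcases Finset.eq_empty_or_nonempty ((nz : Finset VV).filter fun b => R u b) with h | ⟨b, hb⟩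
    · simp [h]
    obtain ⟨hb0, c, hc, heb⟩ := Finset.mem_filter.1 hb
    refine (Finset.card_le_card (t := orb ⊥ b) fun y hy => ?_).trans
      (by have := card_orb_bot (mem_nz.1 hb0); omega)
    obtain ⟨hy0, d, hd, hey⟩ := Finset.mem_filter.1 hy
    by_contra hyn
    rw [← el_smul_iff] at heb hey
    refine hno ⟨u, c • b, d • y, mem_nz.1 hu, smul_ne_zero hc (mem_nz.1 hb0),
      smul_ne_zero hd (mem_nz.1 hy0), fun h => hyn ?_, heb, hey⟩
    obtain ⟨-, g, rfl, e, he⟩ := mem_orb.1 h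
    simp only [Units.val_one, Matrix.one_mulVec] at he
    refine mem_orb.2 ⟨mem_nz.1 hy0, 1, rfl, d⁻¹ * (e * c), ?_⟩
    rw [Units.val_one, Matrix.one_mulVec, ← smul_smul, ← smul_smul, ← he, smul_smul, inv_mul_cancel₀ hd, one_smul]
  have hcol : ∀ b ∈ (nz : Finset VV), 2 * r ≤ ((nz : Finset VV).filter fun u => R u b).card := fun b hb => by
    have hbm : b ∈ orb M a₀ := (hM a₀ ha₀).symm ▸ hb
    obtain ⟨hb0, g, hg, c, rfl⟩ := mem_orb.1 hbm
    have hc : c ≠ 0 := fun h => hb0 (by rw [h, zero_smul])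
    set D := (dual g : Matrix (Fin 3) (Fin 3) F) with hD
    have hinj : ∀ y z : VV, D *ᵥ y = D *ᵥ z → y = z := fun y z h => H98.gl_mulVec_injective (dual g) h
    have h0 : ∀ y : VV, y ≠ 0 → D *ᵥ y ≠ 0 := fun y hy h =>
      hy (hinj y 0 (by rw [h, Matrix.mulVec_zero]))
    have hsub : ∀ y : VV, y ≠ 0 → El M y a₀ → orb ⊥ (D *ᵥ y) ⊆ (nz : Finset VV).filter fun u =>
        R u (c • ((g : Matrix (Fin 3) (Fin 3) F) *ᵥ a₀)) := fun y hy hey z hz => by
      obtain ⟨hz0, g', rfl, e, rfl⟩ := mem_orb.1 hz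
      simp only [Units.val_one, Matrix.one_mulVec] at hz0 ⊢
      have he0 : e ≠ 0 := fun h => hz0 (by rw [h, zero_smul])
      refine Finset.mem_filter.2 ⟨mem_nz.2 hz0, (c * e)⁻¹, inv_ne_zero (mul_ne_zero hc he0), ?_⟩
      rw [el_smul_iff, smul_smul, smul_smul, show c * (c * e)⁻¹ * e = 1 by field_simp, one_smul]
      exact el_conj hg hey
    have hdis : Disjoint (orb ⊥ (D *ᵥ u₀)) (orb ⊥ (D *ᵥ w₀)) := Finset.disjoint_left.2 fun z hz hz' => by
      have := (orb_eq_of_mem hz).symm.trans (orb_eq_of_mem hz')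
      have hmem : D *ᵥ w₀ ∈ orb ⊥ (D *ᵥ u₀) := this ▸ self_mem_orb (h0 w₀ hw₀)
      obtain ⟨-, g', rfl, e, he⟩ := mem_orb.1 hmem
      simp only [Units.val_one, Matrix.one_mulVec, ← Matrix.mulVec_smul] at he
      exact hn₀ (mem_orb.2 ⟨hw₀, 1, rfl, e, by simp [hinj _ _ he]⟩)
    have := Finset.card_le_card (Finset.union_subset (hsub u₀ hu₀ he₁) (hsub w₀ hw₀ he₂))
    rw [Finset.card_union_of_disjoint hdis] at this
    have := card_orb_bot (h0 u₀ hu₀)
    have := card_orb_bot (h0 w₀ hw₀)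
    omega
  have h1 : ∑ u ∈ (nz : Finset VV), ((nz : Finset VV).filter fun b => R u b).card
      = ∑ b ∈ (nz : Finset VV), ((nz : Finset VV).filter fun u => R u b).card := by
    simp only [Finset.card_filter]
    exact Finset.sum_comm
  have h2 := Finset.card_nsmul_le_sum nz _ _ hcol
  have h3 := Finset.sum_le_card_nsmul nz _ _ hrow
  rw [smul_eq_mul] at h2 h3
  have hpos : 0 < (nz : Finset VV).card := Finset.card_pos.2 ⟨a₀, mem_nz.2 ha₀⟩
  nlinarith

theorem twoCentres_of {M : Subgroup (GL (Fin 3) F)} (hM : PTrans (M.map dual)) (h : TwoC M) :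
    TwoCentres M := by
  intro φ hφ
  obtain ⟨v, rfl⟩ := exists_dl φ
  have hv : v ≠ 0 := fun h => hφ (by rw [h]; ext; simp)
  obtain ⟨u, a, b, hu, ha, hb, hn, hea, heb⟩ := h
  have hvm : v ∈ orb (M.map dual) u := (hM u hu).symm ▸ mem_nz.2 hv
  obtain ⟨-, _, ⟨g, hg, rfl⟩, c, rfl⟩ := mem_orb.1 hvm
  have hc : c ≠ 0 := fun h => hv (by rw [h, zero_smul])
  refine ⟨c⁻¹ • ((g : Matrix (Fin 3) (Fin 3) F) *ᵥ a), c⁻¹ • ((g : Matrix (Fin 3) (Fin 3) F) *ᵥ b), ?_, ?_, ?_⟩
  · rw [LinearIndependent.pair_iff' (smul_ne_zero (inv_ne_zero hc) fun h => ha (H98.gl_mulVec_injective g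
      (by show _ *ᵥ a = _ *ᵥ (0 : VV); rw [h, Matrix.mulVec_zero])))]
    intro e he
    rw [smul_comm, ← Matrix.mulVec_smul] at he
    exact hn (mem_orb.2 ⟨hb, 1, rfl, e, by
      rw [Units.val_one, Matrix.one_mulVec]
      exact (H98.gl_mulVec_injective g (smul_right_injective VV (inv_ne_zero hc) he)).symm⟩)
  all_goals
    show El M (c • _) (c⁻¹ • _)
    rw [el_smul_iff, smul_smul, inv_mul_cancel₀ hc, one_smul]
  exacts [el_conj hg hea, el_conj hg heb]

/-- An overgroup of the Singer group with an elation is transitive on points, with two centres on every axis. -/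
theorem elationPiece : ElationPiece (F := F) := by
  intro K hK M hS _ ⟨φ, a, hφ, ha, he⟩
  obtain ⟨u, rfl⟩ := exists_dl φ
  have hu : u ≠ 0 := fun h => hφ (by rw [h]; ext; simp)
  obtain ⟨hG, hG'⟩ := regular_singer hK
  set G := singer K hK.inv_mem
  have hG'' : Regular ((G.map dual).map dual) := by rw [map_dual_dual]; exact hG
  have hP : PTrans M := by
    rcases two_or_two hS hG hG' hK.card_ne hu ha he with h | h
    · exact pTrans_of_twoA hS hG hG' hK.card_ne h
    · have := pTrans_of_twoA (Subgroup.map_mono hS) hG' hG'' hK.card_ne (twoA_of_twoC h)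
      rw [← map_dual_dual M]
      exact pTrans_dual this
  refine ⟨pointTransitive_of_pTrans hP, twoCentres_of (pTrans_dual hP) ?_⟩
  rcases two_or_two hS hG hG' hK.card_ne hu ha he with h | h
  · exact twoC_of_twoA hP h
  · exact h

end Cfsg.Agent.H60.SLThree.Elation
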